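/-
The Picard group of a genus zero curve over an infinite field is generated by a regular point of least degree.
-/
import Groth.Agent.Lib.CurveCoh17.VeryAmple
import Groth.Agent.Lib.CurveCoh17.Hyper
import Groth.Agent.Lib.CurveCoh17.P1Apps
import Groth.Agent.Lib.AmpleFin18.PushEuler
import Groth.Agent.Lib.FlatDepth.GenericSmooth
import Groth.Agent.Lib.VB17.Proper
import Groth.Prelude.Def_PicGrp
import Mathlib.GroupTheory.CosetCover

set_option autoImplicit false
set_option linter.style.haveILetI false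
set_option maxHeartbeats 1000000

universe u

open CategoryTheory TopologicalSpace Opposite CategoryTheory.Limits AlgebraicGeometry

namespace Groth.Agent.Genus0Pic18

open Groth.Agent.M1 Groth.Agent.M2 Groth.Agent.CurveCoh17

attribute [local instance] Curv2.resAlgebra stalkMod

variable {k : Type u} [Field k] {X : Scheme.{u}} [X.Over (Spec (CommRingCat.of k))] [IsIntegral X]

/-- An integral scheme of finite type over a field is regular on a nonempty open. -/
theorem exists_regular_open [LocallyOfFiniteType (X ↘ Spec (CommRingCat.of k))] :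
    ∃ W : X.Opens, genericPoint X ∈ W ∧ ∀ x ∈ W, IsRegularLocalRing (X.presheaf.stalk x) := by
  obtain ⟨_, ⟨U, hU, rfl⟩, hηU, -⟩ :=
    X.isBasis_affineOpens.exists_subset_of_mem_open (Set.mem_univ (genericPoint X)) isOpen_univ
  haveI : Nonempty U := ⟨⟨_, hηU⟩⟩
  let f := X ↘ Spec (CommRingCat.of k)
  let φ : k →+* Γ(X, U) :=
    ((Scheme.ΓSpecIso (CommRingCat.of k)).inv ≫ f.appLE ⊤ U (by simp)).hom
  have hφ : φ.FiniteType := by
    refine RingHom.FiniteType.comp (f.finiteType_appLE (isAffineOpen_top _) hU _)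
      (RingHom.FiniteType.of_surjective _ ?_)
    exact ((ConcreteCategory.isIso_iff_bijective (Scheme.ΓSpecIso (CommRingCat.of k)).inv).1 inferInstance).2
  letI : Algebra k Γ(X, U) := φ.toAlgebra
  haveI : Algebra.FiniteType k Γ(X, U) := hφ
  obtain ⟨V, hV, ⟨p, hp⟩, hreg⟩ := FlatDepth.regLocus_open_of_finiteType_field k Γ(X, U)
  let W : X.Opens := hU.fromSpec ''ᵁ (show (Spec Γ(X, U)).Opens from ⟨V, hV⟩)
  refine ⟨W, ?_, ?_⟩
  · exact ((genericPoint_spec X).mem_open_set_iff W.isOpen).2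
      ⟨hU.fromSpec p, trivial, p, hp, rfl⟩
  · rintro _ ⟨q, hq, rfl⟩
    have hqU : hU.fromSpec q ∈ U := by
      rw [← SetLike.mem_coe, ← hU.range_fromSpec]; exact ⟨q, rfl⟩
    letI := (X.presheaf.germ U (hU.fromSpec q) hqU).hom.toAlgebra
    haveI : IsLocalization q.asIdeal.primeCompl (X.presheaf.stalk (hU.fromSpec q)) :=
      hU.isLocalization_stalk' q hqU
    haveI : IsRegularLocalRing (Localization.AtPrime q.asIdeal) := hreg hq
    exact IsRegularLocalRing.of_ringEquiv (R := Localization.AtPrime q.asIdeal)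
      (IsLocalization.algEquiv q.asIdeal.primeCompl (Localization.AtPrime q.asIdeal)
        (X.presheaf.stalk (hU.fromSpec q))).toRingEquiv

theorem support_point_dim {x : X} (hx : IsClosed ({x} : Set X)) :
    topologicalKrullDim ((Scheme.IdealSheafData.vanishingIdeal (⟨{x}, hx⟩ : Closeds X)).support : Set X) ≤ 0 := by
  rw [show ((Scheme.IdealSheafData.vanishingIdeal (⟨{x}, hx⟩ : Closeds X)).support : Set X) = ({x} : Set X) by simp]
  haveI : DiscreteTopology ({x} : Set X) := Subsingleton.discreteTopology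
  exact topologicalKrullDim_zero_of_discreteTopology _

theorem h0_quotMod_pos (hX : CurveLike k X) {x : X} (hx : IsClosed ({x} : Set X)) :
    0 < Module.finrank k (Coh.HH X (ClSub.quotMod (Scheme.IdealSheafData.vanishingIdeal (⟨{x}, hx⟩ : Closeds X))) 0) := by
  classical
  haveI := hX.noetherian
  haveI := hX.fin _ (isCoh_quotMod (Scheme.IdealSheafData.vanishingIdeal (⟨{x}, hx⟩ : Closeds X))) 0
  obtain ⟨-, a₀, ha₀⟩ := quot_point_props hx
  obtain ⟨w, hw⟩ := ((suppIn_quotMod_point hx).h0Equiv k).surjective fun i =>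
    if h : (i : X) = x then h.symm ▸ a₀ else 0
  refine Module.finrank_pos_iff.2 ⟨w, 0, fun h => ha₀ ?_⟩
  have h2 := congrFun hw ⟨x, Finset.mem_singleton_self x⟩
  rw [dif_pos rfl, h, map_zero] at h2
  exact h2.symm

theorem deg_pointIdeal (hX : CurveLike k X) {x : X} (hx : IsClosed ({x} : Set X)) :
    Curv2.deg k X (ClSub.idealMod (Scheme.IdealSheafData.vanishingIdeal (⟨{x}, hx⟩ : Closeds X))) 1 =
      -(Module.finrank k (Coh.HH X (ClSub.quotMod (Scheme.IdealSheafData.vanishingIdeal (⟨{x}, hx⟩ : Closeds X))) 0) : ℤ) := by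
  haveI := hX.noetherian
  set Z := Scheme.IdealSheafData.vanishingIdeal (⟨{x}, hx⟩ : Closeds X)
  have h := euler_add (shortExact_idealMod Z) (hX.adm (isCoh_idealMod Z)) (hX.adm (isCoh_quotMod Z))
  dsimp only at h
  rw [(suppIn_quotMod_point hx).euler_eq (hX.fin _ (isCoh_quotMod Z) 0)] at h
  rw [Curv2.deg]
  push_cast
  linarith

/-- In genus zero an invertible module of nonnegative degree is generated by a section at every closed point. -/
theorem atPoint_ne_zero (hX : CurveLike k X) (hg : Curv2.genus k X = 0) {M : X.Modules}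
    (hM : PicF.IsInvertible M) (hm : 0 ≤ Curv2.deg k X M 1) {z : X} (hz : IsClosed ({z} : Set X)) :
    atPoint k hz M ≠ 0 := by
  intro h0
  haveI := hX.noetherian
  set Z := Scheme.IdealSheafData.vanishingIdeal (⟨{z}, hz⟩ : Closeds X)
  obtain ⟨-, hsum⟩ := finrank_twist_point hX hM hz
  rw [h0, LinearMap.range_zero, finrank_bot, add_zero] at hsum
  rw [(hequiv k (tensorComm M (ClSub.idealMod Z)) 0).finrank_eq] at hsum
  obtain ⟨hrk, -, hdeg⟩ := hX.twist_data hM Z (support_point_dim hz)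
  have hrr := hX.rr (isCoh_of_ofRank ((isInvertible_iff_isFinLocFreeOfRank_one M).1 hM))
  have hrrF := hX.rr hrk.coh
  have hpos : 0 < Module.finrank k (Coh.HH X (ClSub.quotMod Z) 0) := h0_quotMod_pos hX hz
  have hsum' : Module.finrank k (Coh.HH X M 0) =
      Module.finrank k (Coh.HH X (CohB1.tensorMod (ClSub.idealMod Z) M) 0) := hsum
  have hO := VB17.h0_pos hX
  rw [hg, Nat.cast_zero, sub_zero] at hrr hrrF
  haveI : Nontrivial (Coh.HH X (CohB1.tensorMod (ClSub.idealMod Z) M) 0) :=
    Module.nontrivial_of_finrank_pos (R := k) (by omega)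
  obtain ⟨w, hw⟩ := exists_ne (0 : Coh.HH X (CohB1.tensorMod (ClSub.idealMod Z) M) 0)
  obtain ⟨t, -, -, -, h1le, -, -⟩ := hX.section_numerics hrk (hh0_ne_zero hw)
  omega

/-- An invertible module of degree less than all the degrees of the regular closed points is trivial. -/
theorem trivial_of_deg_lt [Infinite k] [IsProper (X ↘ Spec (CommRingCat.of k))] (hdim : topologicalKrullDim X = 1)
    (hg : Curv2.genus k X = 0) (d : ℤ)
    (hmin : ∀ (Q : X) (hQ : IsClosed ({Q} : Set X)), IsRegularLocalRing (X.presheaf.stalk Q) →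
      d ≤ Module.finrank k (Coh.HH X (ClSub.quotMod (Scheme.IdealSheafData.vanishingIdeal (⟨{Q}, hQ⟩ : Closeds X))) 0))
    {M : X.Modules} (hM : PicF.IsInvertible M) (hm : 0 ≤ Curv2.deg k X M 1) (hmd : Curv2.deg k X M 1 < d) :
    Nonempty (M ≅ Coh.structureModule X) := by
  classical
  have hX : CurveLike k X := VB17.curveLike hdim
  haveI := hX.noetherian
  have hcohM := isCoh_of_ofRank ((isInvertible_iff_isFinLocFreeOfRank_one M).1 hM)
  haveI := hX.fin M hcohM 0
  have hrr := hX.rr hcohM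
  have hO := VB17.h0_pos hX
  rw [hg, Nat.cast_zero, sub_zero] at hrr
  haveI : Nontrivial (Coh.HH X M 0) := Module.nontrivial_of_finrank_pos (R := k) (by omega)
  have hrkM := rkOne_of_invertible hX.dim hM
  rcases hm.eq_or_lt with hm0 | hm0
  · exact (hX.deg_nonneg hrkM inferInstance).2 hm0.symm
  exfalso
  obtain ⟨W, hηW, hW⟩ := exists_regular_open (k := k) (X := X)
  obtain ⟨S, hS, hScl⟩ := exists_finset_closedPoints hX.dim (C := (W : Set X)ᶜ) W.isOpen.isClosed_compl
    fun g hg' hgC => hgC (eq_genericPoint_of_maximal hg' ▸ hηW)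
  let V : Finset (Subspace k (Coh.HH X M 0)) :=
    insert ⊥ (S.attach.image fun z => LinearMap.ker (atPoint k (hScl z.1 z.2) M))
  have htop : ⊤ ∉ V := by
    simp only [V, Finset.mem_insert, Finset.mem_image, not_or, not_exists, not_and]
    exact ⟨top_ne_bot, fun z _ h => atPoint_ne_zero hX hg hM hm (hScl z.1 z.2) (LinearMap.ker_eq_top.1 h)⟩
  obtain ⟨w, hw⟩ := (Set.ne_univ_iff_exists_notMem _).1 (Subspace.biUnion_ne_univ_of_top_notMem htop)
  simp only [Set.mem_iUnion, SetLike.mem_coe, not_exists] at hw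
  have hw0 : w ≠ 0 := fun h => hw ⊥ (Finset.mem_insert_self _ _) (h ▸ zero_mem _)
  have hs : (hh0 M w : Γ(M, (⊤ : X.Opens))) ≠ 0 := hh0_ne_zero hw0
  obtain ⟨x, hx⟩ := exists_vanish_of_deg_pos hX hM hm0 hs
  have hne : x ≠ genericPoint X := by
    rintro rfl
    have hbot : IsLocalRing.maximalIdeal (X.presheaf.stalk (genericPoint X)) = ⊥ :=
      IsLocalRing.isField_iff_maximalIdeal_eq.1 (Field.toIsField X.functionField)
    rw [hbot, Submodule.bot_smul, Submodule.mem_bot] at hx
    exact hs (eq_zero_of_germ_eq_zero ((isInvertible_iff_isFinLocFreeOfRank_one M).1 hM) _ hx)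
  have hc : IsClosed ({x} : Set X) := AmpleFin18.isClosed_of_ne_genericPoint hX.dim hne
  obtain ⟨a, ha⟩ := (germ_mem_iff (k := k) hM hc w).1 hx
  haveI hreg : IsRegularLocalRing (X.presheaf.stalk x) := hW x (by
    by_contra hxW
    have hxS : x ∈ S := Finset.mem_coe.1 (hS ▸ hxW : x ∈ (S : Set X))
    refine hw _ (Finset.mem_insert_of_mem (Finset.mem_image.2 ⟨⟨x, hxS⟩, Finset.mem_attach _ _, rfl⟩)) ?_
    exact LinearMap.mem_ker.2 ((exact_pointIncl (k := k) hM hc w).2 ⟨a, ha⟩))
  set Z := Scheme.IdealSheafData.vanishingIdeal (⟨{x}, hc⟩ : Closeds X)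
  obtain ⟨hrk, -, hdeg⟩ := hX.twist_data hM Z (support_point_dim hc)
  haveI : Nontrivial (Coh.HH X (CohB1.tensorMod (ClSub.idealMod Z) M) 0) := by
    refine ⟨a, 0, fun h => hw0 ?_⟩
    rw [← ha, h]
    exact map_zero _
  have hnn := (hX.deg_nonneg hrk inferInstance).1
  have hd : d ≤ Module.finrank k (Coh.HH X (ClSub.quotMod Z) 0) := hmin x hc hreg
  omega

/-- Twisting a class by a power of an invertible class. -/
theorem exists_twist [PicGrp.Law X] (hX : CurveLike k X) {I : X.Modules} (hI : PicF.IsInvertible I) (a : ℤ)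
    {L : X.Modules} (hL : PicF.IsInvertible L) :
    ∃ (M : X.Modules) (hM : PicF.IsInvertible M), PicGrp.cls M hM = PicGrp.cls L hL * PicGrp.cls I hI ^ a ∧
      Curv2.deg k X M 1 = Curv2.deg k X L 1 + a * Curv2.deg k X I 1 := by
  have mul : ∀ {A B : X.Modules} (hA : PicF.IsInvertible A) (hB : PicF.IsInvertible B),
      PicGrp.cls (CohB1.tensorMod A B) (M2.isInvertible_tensor hA hB) = PicGrp.cls A hA * PicGrp.cls B hB :=
    fun hA hB => Subtype.ext (PicGrp.cls_mul_cls_val hA hB).symm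
  obtain ⟨D, hD, ⟨e⟩⟩ := M2.exists_inverse hI
  induction a using Int.induction_on with
  | zero => exact ⟨L, hL, by simp, by simp⟩
  | succ n ih =>
    obtain ⟨M, hM, hc, hd⟩ := ih
    refine ⟨_, M2.isInvertible_tensor hM hI, ?_, ?_⟩
    · rw [mul hM hI, hc, zpow_add_one, mul_assoc]
    · rw [hX.deg_tensor_invertible hM hI, hd]; ring
  | pred n ih =>
    obtain ⟨M, hM, hc, hd⟩ := ih
    refine ⟨_, M2.isInvertible_tensor hM hD, ?_, ?_⟩
    · rw [mul hM hD, hc, ← PicGrp.cls_inv_eq_cls hI hD ⟨e⟩, zpow_sub_one, mul_assoc]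
    · rw [hX.deg_tensor_invertible hM hD, hd, hX.deg_of_tensor_iso hI hD e]; ring

end Groth.Agent.Genus0Pic18
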